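import Cfsg.Agent.Lib.SympPrimeGraph.Commutant
import Cfsg.Agent.Lib.UnitaryHalfTorus.Main
import Cfsg.Agent.Lib.Classical.UnitaryOrder

/-!
Primes of elements of `PSU_m(q)` commuting with an element of order `p`.
-/

set_option autoImplicit false
set_option linter.unusedSectionVars false
set_option linter.style.haveILetI false

namespace CfsgLib.UnitaryPComm

open Polynomial CfsgLib.FormRep

variable {F : Type*} [Field F] [Fintype F] {q : ℕ}

theorem dvd_factor_iff {r : ℕ} (hq : 1 ≤ q) (i : ℕ) :
    r ∣ (if Even i then q ^ (i + 1) + 1 else q ^ (i + 1) - 1) ↔ (-(q : ZMod r)) ^ (i + 1) = 1 := by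
  rw [← ZMod.natCast_eq_zero_iff]
  rcases Nat.even_or_odd i with he | ho
  · rw [if_pos he, he.add_one.neg_pow, Nat.cast_add, Nat.cast_pow, Nat.cast_one, neg_eq_iff_eq_neg,
      add_eq_zero_iff_eq_neg]
  · rw [if_neg (Nat.not_even_iff_odd.2 ho), ho.add_one.neg_pow,
      Nat.cast_sub (Nat.one_le_pow _ _ hq), sub_eq_zero, Nat.cast_pow, Nat.cast_one]

/-- The characteristic polynomial of an element of large prime order is squarefree. -/
theorem squarefree_charpoly {p a : ℕ} [Fact p.Prime] [CharP F p] (hqa : q = p ^ a)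
    (hF : Fintype.card F = q ^ 2) {m : ℕ} (hm : 4 ≤ m) (σ : F ≃+* F) (hσq : ∀ c, σ c = c ^ q)
    (hσ : ∀ c, σ (σ c) = c) {A : Matrix (Fin m) (Fin m) F} {r : ℕ} (hr : r.Prime) (hrp : r ≠ p)
    (hA : (adjU σ hσ (Fin m)).ad A * A = 1) (hoA : orderOf A = r)
    (he : m - 1 ≤ orderOf (-(q : ZMod r))) : Squarefree A.charpoly := by
  classical
  haveI := Fact.mk hr
  have hp : p.Prime := Fact.out
  have hnr : p.Coprime r := (Nat.coprime_primes hp hr).mpr (Ne.symm hrp)
  set M := adjU σ hσ (Fin m) with hM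
  set e := orderOf (-(q : ZMod r)) with hedef
  have hsep : (X ^ r - 1 : F[X]).Separable := X_pow_sub_one_separable_iff.2 (fun h => by
    rw [CharP.cast_eq_zero_iff F p] at h
    exact hrp ((Nat.prime_dvd_prime_iff_eq hp hr).1 h).symm)
  have hd : orderOf (((q : ZMod r)) ^ 2) = if Even e then e / 2 else e := by
    rw [← neg_sq]
    rcases Nat.even_or_odd e with h | h
    · rw [if_pos h, orderOf_pow' _ two_ne_zero, ← hedef, Nat.gcd_eq_right h.two_dvd]
    · rw [if_neg (Nat.not_even_iff_odd.2 h), Nat.Coprime.orderOf_pow]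
      exact Nat.coprime_two_right.2 h
  set μ := minpoly F A with hμ
  have hμd : μ ∣ X ^ r - 1 := minpoly.dvd F A (by
    rw [map_sub, map_pow, aeval_X, map_one, ← hoA, pow_orderOf_eq_one, sub_self])
  set χ := A.charpoly with hχ
  have hfac : ∀ f : F[X], Irreducible f → f.Monic → f ∣ χ → f ∣ X ^ r - 1 ∧
      (f = X - 1 ∨ f.natDegree = if Even e then e / 2 else e) := by
    intro f hf hfm hfd
    have h1 : f ∣ X ^ r - 1 := (dvd_minpoly_of_dvd_charpoly hf hfd).trans hμd
    refine ⟨h1, ?_⟩
    rw [← cyclotomic_prime_mul_X_sub_one F r] at h1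
    rcases hf.prime.dvd_or_dvd h1 with h | h
    · right
      have hK : Fintype.card F = p ^ (2 * a) := by rw [hF, hqa, ← pow_mul, mul_comm]
      rw [natDegree_of_mem_normalizedFactors_cyclotomic (P := f) hK hnr (by
        rw [UniqueFactorizationMonoid.mem_normalizedFactors_iff' (cyclotomic_ne_zero r F)]
        exact ⟨hf, hfm.normalize_eq_self, h⟩)]
      rw [← orderOf_units, ZMod.coe_unitOfCoprime, ← hd, mul_comm 2, pow_mul, ← hqa, Nat.cast_pow]
    · exact Or.inl (eq_of_monic_of_associated hfm (by simpa using monic_X_sub_C (1 : F))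
        (hf.associated_of_dvd (by simpa using irreducible_X_sub_C (1 : F)) h))
  have hχm : χ.Monic := Matrix.charpoly_monic A
  obtain ⟨f, hfm, hf, hfχ, hf1⟩ : ∃ f : F[X], f.Monic ∧ Irreducible f ∧ f ∣ χ ∧ f ≠ X - 1 := by
    by_contra hno
    push Not at hno
    have hμm : μ.Monic := minpoly.monic (Matrix.isIntegral A)
    have hall : ∀ P ∈ UniqueFactorizationMonoid.normalizedFactors χ, P = X - 1 := fun P hP =>
      hno P (Classical.PrimeOrderCount.normalizedFactor_monic hχm.ne_zero hP)
        (UniqueFactorizationMonoid.irreducible_of_normalized_factor P hP)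
        (UniqueFactorizationMonoid.dvd_of_mem_normalizedFactors hP)
    have hdvd : μ ∣ X - 1 := by
      refine (hsep.squarefree.squarefree_of_dvd hμd).isRadical
        (Multiset.card (UniqueFactorizationMonoid.normalizedFactors χ)) _ ?_
      have hprod := UniqueFactorizationMonoid.prod_normalizedFactors (a := χ) hχm.ne_zero
      rw [Multiset.eq_replicate_of_mem hall, Multiset.prod_replicate] at hprod
      exact (Matrix.minpoly_dvd_charpoly A).trans hprod.symm.dvd
    have h4 : aeval A (X - 1 : F[X]) = 0 :=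
      aeval_eq_zero_of_dvd_aeval_eq_zero hdvd (minpoly.aeval F A)
    rw [map_sub, aeval_X, map_one, sub_eq_zero] at h4
    exact hr.ne_one (hoA ▸ orderOf_eq_one_iff.2 h4)
  obtain ⟨hfX, hfd'⟩ := hfac f hf hfm hfχ
  have hfd : f.natDegree = if Even e then e / 2 else e := hfd'.resolve_left hf1
  have hf0 : f.coeff 0 ≠ 0 := fun h => by
    obtain ⟨R, hR⟩ := hfX
    have h' := congrArg (fun P : F[X] => P.coeff 0) hR
    simp [h, mul_coeff_zero, hr.ne_zero.symm, coeff_X_pow] at h'
  set g := normalize (M.cr f) with hg'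
  have hga : Associated g (M.cr f) := normalize_associated _
  have hgi : Irreducible g := hga.symm.irreducible (M.cr_irreducible hf hf0)
  have hgm : g.Monic := monic_normalize (M.cr_ne_zero hf.ne_zero)
  have hgdeg : g.natDegree = f.natDegree := by
    rw [Polynomial.natDegree_eq_of_degree_eq (degree_eq_degree_of_associated hga), M.natDegree_cr hf0]
  have hχd : χ.natDegree = m := by rw [hχ, Matrix.charpoly_natDegree_eq_dim, Fintype.card_fin]
  have hsplit : ∀ P : F[X], P.Monic → Squarefree P → e ≤ P.natDegree → P ∣ χ →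
      (∀ Q : F[X], Q.natDegree = 1 → ¬ Q ∣ P) → Squarefree χ := by
    intro P hPm hPs hPd ⟨R, hR⟩ hno
    have hRm : R.Monic := hPm.of_mul_monic_left (hR ▸ hχm)
    have hdeg := congrArg natDegree hR
    rw [hχd, hPm.natDegree_mul hRm] at hdeg
    rcases Nat.eq_zero_or_pos R.natDegree with h | h
    · rw [hR, hRm.natDegree_eq_zero.1 h, mul_one]
      exact hPs
    have hR1 : R.natDegree = 1 := by omega
    have hRi : Irreducible R := irreducible_of_degree_eq_one (by
      rw [degree_eq_natDegree hRm.ne_zero, hR1]; rfl)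
    rw [hR, squarefree_mul_iff]
    exact ⟨((hRi.coprime_iff_not_dvd.2 (hno R hR1)).symm).isRelPrime, hPs, hRi.squarefree⟩
  rcases Nat.even_or_odd e with hev | hodd
  · rw [if_pos hev] at hfd
    obtain ⟨k, hk⟩ := hev
    have hgf : g ≠ f := fun heq => by
      let sh : M.Shape := ⟨f, f, g, hfm, hgm, hf, hgi, hf0, hga, hgdeg, Or.inl ⟨heq, rfl⟩⟩
      have hfin : Fact (Irreducible f) := ⟨hf⟩
      have : Module.Finite F (AdjoinRoot f) := (AdjoinRoot.powerBasis hf.ne_zero).finite
      have : Finite (AdjoinRoot f) := Module.finite_of_finite F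
      obtain ⟨τ, hτ⟩ := exists_powEquiv (F := F) (AdjoinRoot f) p hp a
      set x := AdjoinRoot.root f
      have hx : aeval x f = 0 := by rw [AdjoinRoot.aeval_eq, AdjoinRoot.mk_self]
      obtain ⟨-, hpow⟩ := sh.unitary_root heq hF hσq τ.toRingHom (fun y => by rw [hqa]; exact hτ y) hx
      have h1 : x ^ q ^ (f.natDegree * 1) * x = 1 := hpow 1 odd_one
      rw [mul_one, ← pow_succ] at h1
      have hxr : x ^ r = 1 := by
        have := aeval_eq_zero_of_dvd_aeval_eq_zero hfX hx
        simpa [sub_eq_zero] using this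
      have hxo : orderOf x = r := orderOf_eq_prime hxr fun hx1 => by
        rw [hx1, ← map_one (algebraMap F _), aeval_algebraMap_apply, map_eq_zero] at hx
        have := degree_eq_one_of_irreducible_of_root hf hx
        rw [degree_eq_natDegree hf.ne_zero, hfd] at this
        norm_cast at this
        omega
      have hd1 : r ∣ q ^ f.natDegree + 1 := hxo ▸ orderOf_dvd_of_pow_eq_one h1
      rw [← ZMod.natCast_eq_zero_iff, Nat.cast_add, Nat.cast_pow, Nat.cast_one,
        add_eq_zero_iff_eq_neg] at hd1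
      obtain ⟨hod, -⟩ := sh.unitary_root heq hF hσq τ.toRingHom (fun y => by rw [hqa]; exact hτ y) hx
      change Odd f.natDegree at hod
      have h3 : (-(q : ZMod r)) ^ f.natDegree = 1 := by rw [hod.neg_pow, hd1, neg_neg]
      have h4 := Nat.le_of_dvd (by omega) (orderOf_dvd_of_pow_eq_one h3)
      omega
    have hgχ : g ∣ χ := by
      obtain ⟨R, hR⟩ := hfχ
      refine hga.dvd.trans ((Dvd.intro (M.cr R) ?_).trans (M.charpoly_cr hA).symm.dvd)
      rw [← hχ, hR, M.cr_mul]
    have hcop : IsCoprime f g := hf.coprime_iff_not_dvd.2 fun h => hgf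
      (eq_of_monic_of_associated hgm hfm (hf.associated_of_dvd hgi h).symm)
    refine hsplit (f * g) (hfm.mul hgm)
      (squarefree_mul_iff.2 ⟨hcop.isRelPrime, hf.squarefree, hgi.squarefree⟩)
      (by rw [hfm.natDegree_mul hgm, hgdeg, hfd]; omega) (hcop.mul_dvd hfχ hgχ) ?_
    intro Q hQ hdvd
    have hQi : Irreducible Q := irreducible_of_degree_eq_one (by
      rw [degree_eq_natDegree (fun h => by simp [h] at hQ), hQ]; rfl)
    rcases hQi.prime.dvd_or_dvd hdvd with h | h
    · have := natDegree_eq_of_degree_eq (degree_eq_degree_of_associated (hQi.associated_of_dvd hf h))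
      omega
    · have := natDegree_eq_of_degree_eq (degree_eq_degree_of_associated (hQi.associated_of_dvd hgi h))
      omega
  · rw [if_neg (Nat.not_even_iff_odd.2 hodd)] at hfd
    refine hsplit f hfm hf.squarefree hfd.ge hfχ fun Q hQ hdvd => ?_
    have hQi : Irreducible Q := irreducible_of_degree_eq_one (by
      rw [degree_eq_natDegree (fun h => by simp [h] at hQ), hQ]; rfl)
    have := natDegree_eq_of_degree_eq (degree_eq_degree_of_associated (hQi.associated_of_dvd hf hdvd))
    omega

/-- Every prime of an element commuting with an element of order `p` divides `|SU_{m-2}(q)|`. -/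
theorem prime_dvd (p a : ℕ) [Fact p.Prime] [CharP F p] (hqa : q = p ^ a) (ha : 1 ≤ a)
    (hF : Fintype.card F = q ^ 2) {m : ℕ} (hm : 4 ≤ m) {x y : Cfsg.PSU m F q} (hx : orderOf x = p)
    (hxy : Commute x y) {r : ℕ} (hr : r.Prime) (hry : r ∣ orderOf y) :
    r ∣ Nat.card ↥(Cfsg.SU (m - 2) F q) := by
  classical
  haveI := Fact.mk hr
  have hp : p.Prime := Fact.out
  have hq2 : 2 ≤ q := hqa ▸ hp.two_le.trans (Nat.le_self_pow (by omega) p)
  obtain ⟨K⟩ := Classical.Herm.exists_conj_of_card (q := q) hF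
  obtain ⟨σ, hσq, hσ, -⟩ := UnitaryHalfTorus.exists_sigma p a hqa hq2 hF
  have hcardSU := Classical.Herm.card_SU K (n := m - 2) (by omega)
  rw [Classical.Herm.card_GU K] at hcardSU
  by_cases hrp : r = p
  · subst hrp
    have h1 : r ∣ (q + 1) * Nat.card ↥(Cfsg.SU (m - 2) F q) := by
      rw [hcardSU]
      refine dvd_mul_of_dvd_left ((hqa ▸ dvd_pow_self r (by omega) : r ∣ q).trans
        (dvd_pow_self q ?_)) _
      have h1 : 2 ≤ (m - 2) * (m - 2 - 1) := Nat.mul_le_mul (show 2 ≤ m - 2 by omega)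
        (show 1 ≤ m - 2 - 1 by omega)
      omega
    refine (hr.dvd_mul.1 h1).resolve_left fun h => hr.not_dvd_one ?_
    exact (Nat.dvd_add_right (hqa ▸ dvd_pow_self r (by omega) : r ∣ q)).1 h
  have hrq : ¬ r ∣ q := fun h => hrp ((Nat.prime_dvd_prime_iff_eq hr hp).1
    (hr.dvd_of_dvd_pow (hqa ▸ h)))
  have hqz : -(q : ZMod r) ≠ 0 := by
    rwa [neg_ne_zero, Ne, ZMod.natCast_eq_zero_iff]
  set e := orderOf (-(q : ZMod r)) with hedef
  have he0 : 0 < e := orderOf_pos_iff.2 (isOfFinOrder_iff_pow_eq_one.2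
    ⟨r - 1, by have := hr.two_le; omega, ZMod.pow_card_sub_one_eq_one hqz⟩)
  by_cases hle : e ≤ m - 2
  · rcases Nat.lt_or_ge 1 e with he1 | he1
    · have hne : ¬ r ∣ q + 1 := fun h => by
        have : -(q : ZMod r) = 1 := by
          rw [← ZMod.natCast_eq_zero_iff, Nat.cast_add, Nat.cast_one] at h
          linear_combination (-1 : ZMod r) * h
        rw [hedef, this, orderOf_one] at he1
        omega
      refine (hr.dvd_mul.1 ?_).resolve_left hne
      rw [hcardSU]
      refine dvd_mul_of_dvd_right ((Prime.dvd_finsetProd_iff hr.prime _).2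
        ⟨e - 1, Finset.mem_range.2 (by omega), ?_⟩) _
      rw [dvd_factor_iff (by omega), show e - 1 + 1 = e by omega]
      exact pow_orderOf_eq_one _
    · -- `r ∣ q + 1`
      have h1 : (q + 1) * r ∣ (q + 1) * Nat.card ↥(Cfsg.SU (m - 2) F q) := by
        rw [hcardSU]
        refine dvd_mul_of_dvd_right ?_ _
        obtain ⟨l, hl⟩ : ∃ l, m - 2 = l + 2 := ⟨m - 4, by omega⟩
        rw [hl, Finset.prod_range_succ' , Finset.prod_range_succ']
        simp only [Nat.not_even_one, zero_add, if_false, if_true, Even.zero, pow_one]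
        have hr1 : r ∣ q ^ (1 + 1) - 1 := by
          have h := (dvd_factor_iff (r := r) (q := q) (by omega) 1).2 (by
            rw [← orderOf_dvd_iff_pow_eq_one, ← hedef, show e = 1 by omega]; exact one_dvd _)
          simpa using h
        rw [mul_comm (q + 1), mul_assoc]
        exact (Nat.mul_dvd_mul hr1 dvd_rfl).trans (Dvd.intro_left _ rfl)
      exact Nat.dvd_of_mul_dvd_mul_left (by omega) h1
  exfalso
  -- lift
  set G := Cfsg.SU m F q
  obtain ⟨A₀, rfl⟩ := QuotientGroup.mk'_surjective _ x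
  obtain ⟨B, hB⟩ := QuotientGroup.mk'_surjective _ (y ^ (orderOf y / r))
  set z := Nat.card (Subgroup.center G) with hz
  have hzd : z ∣ q + 1 := by
    rw [hz, Classical.Herm.card_center K (by omega)]; exact Nat.gcd_dvd_right _ _
  have hzp : z.Coprime p := by
    refine Nat.Coprime.coprime_dvd_left hzd ?_
    rw [Nat.coprime_comm, hp.coprime_iff_not_dvd]
    exact fun h => hp.not_dvd_one ((Nat.dvd_add_right (hqa ▸ dvd_pow_self p (by omega) : p ∣ q)).1 h)
  set u := A₀ ^ z
  have hmem : A₀ ^ p ∈ Subgroup.center G := by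
    rw [← QuotientGroup.eq_one_iff, QuotientGroup.mk_pow]
    exact hx ▸ pow_orderOf_eq_one _
  have hup : u ^ p = 1 := by
    rw [← pow_mul, mul_comm, pow_mul]
    exact congrArg Subtype.val (pow_card_eq_one' (x := (⟨_, hmem⟩ : Subgroup.center G)))
  have hu1 : u ≠ 1 := fun h => by
    have h2 : orderOf (QuotientGroup.mk' (Subgroup.center G) A₀) ∣ z :=
      orderOf_dvd_of_pow_eq_one (by rw [← map_pow, show A₀ ^ z = 1 from h, map_one])
    rw [hx] at h2
    exact hp.ne_one (Nat.eq_one_of_dvd_coprimes hzp h2 dvd_rfl)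
  have hou : orderOf u = p := orderOf_eq_prime hup hu1
  have hc : Commute B u := by
    have h1 : QuotientGroup.mk' (Subgroup.center G) (B * u * B⁻¹ * u⁻¹) = 1 := by
      have hcm : Commute (QuotientGroup.mk' (Subgroup.center G) B)
          (QuotientGroup.mk' (Subgroup.center G) u) := by
        rw [hB, map_pow]
        exact ((hxy.pow_left z).pow_right _).symm
      rw [map_mul, map_mul, map_mul, map_inv, map_inv, hcm.eq]
      group
    rw [QuotientGroup.mk'_apply, QuotientGroup.eq_one_iff] at h1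
    set c := B * u * B⁻¹ * u⁻¹ with hcdef
    have hcu : B * u * B⁻¹ = c * u := by rw [hcdef]; group
    have hcp : c ^ p = 1 := by
      have h2 := congrArg (· ^ p) hcu
      simp only [conj_pow, hup, mul_one, mul_inv_cancel,
        (Commute.mul_pow (Subgroup.mem_center_iff.1 h1 u).symm p)] at h2
      exact h2.symm
    have hc1 : c = 1 := by
      have h2 : orderOf c ∣ z := by
        have h4 := orderOf_dvd_natCard (⟨c, h1⟩ : Subgroup.center G)
        rwa [Subgroup.orderOf_mk] at h4
      exact orderOf_eq_one_iff.1 (Nat.eq_one_of_dvd_coprimes hzp h2 (orderOf_dvd_of_pow_eq_one hcp))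
    rw [hc1, one_mul] at hcu
    exact mul_inv_eq_iff_eq_mul.1 hcu
  have hrB : r ∣ orderOf B := by
    have h := orderOf_map_dvd (QuotientGroup.mk' (Subgroup.center G)) B
    rwa [hB, orderOf_pow_orderOf_div (orderOf_pos y).ne' hry] at h
  set v := B ^ (orderOf B / r)
  have hov : orderOf v = r := orderOf_pow_orderOf_div (orderOf_pos B).ne' hrB
  have hvu : Commute v u := hc.pow_left _
  set W := Unitary.model (n := m) (by omega) hF σ hσq hσ
  have hoA : orderOf (W.toMat v) = r := by rw [orderOf_injective W.toMat W.inj, hov]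
  have hsq := squarefree_charpoly hqa hF hm σ hσq hσ hr hrp (W.isom v).1 hoA (by rw [← hedef]; omega)
  have hsep : (X ^ r - 1 : F[X]).Separable := X_pow_sub_one_separable_iff.2 (fun h => by
    rw [CharP.cast_eq_zero_iff F p] at h
    exact hrp ((Nat.prime_dvd_prime_iff_eq hp hr).1 h).symm)
  have : Nonempty (Fin m) := ⟨⟨0, by omega⟩⟩
  have hnil : IsNilpotent (W.toMat u - 1) := ⟨p, by
    rw [sub_pow_char_of_commute (p := p) (Commute.one_right (W.toMat u)), one_pow, ← map_pow, hup,
      map_one]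
    exact sub_self _⟩
  have hN := SympPrimeGraph.eq_zero_of_squarefree (f := Matrix.toLinAlgEquiv' (W.toMat v)) hsep.squarefree
    (by
      rw [map_sub, map_pow, aeval_X, map_one, ← map_pow, ← map_pow, ← hov, pow_orderOf_eq_one,
        map_one, map_one]
      exact sub_self _)
    (by
      rw [show (Matrix.toLinAlgEquiv' (W.toMat v)).charpoly = (W.toMat v).charpoly from
        Matrix.charpoly_toLin' _]
      exact hsq)
    (N := Matrix.toLinAlgEquiv' (W.toMat u - 1))
    ((((hvu.map W.toMat).symm).sub_left (Commute.one_left _)).map Matrix.toLinAlgEquiv')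
    (hnil.map (Matrix.toLinAlgEquiv' : _ ≃ₐ[F] _))
  refine hu1 (W.inj ?_)
  rw [map_one]
  exact sub_eq_zero.1 ((map_eq_zero_iff _ Matrix.toLinAlgEquiv'.injective).1 hN)

end CfsgLib.UnitaryPComm
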